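import Groth.Agent.H62.MatCoeff
import Groth.Agent.H62.ProdComod
import Mathlib.RingTheory.Finiteness.Projective
import Mathlib.LinearAlgebra.TensorProduct.Finiteness
import Mathlib.RingTheory.Flat.Basic
import Mathlib.RingTheory.Noetherian.Basic

/-!
# helper1: equivariant resolution property ⟹ linear (Thomason), Hopf-algebra form

Over a commutative ring `k` and a flat `k`-coalgebra `C`:
* `subComod W hW` : comodule structure on a subcomodule (flat version of `H62.subComod`);
* `exists_finite_subcomod_finset` : over a Noetherian ring, every finite subset of a comodule lies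
  in a finitely generated subcomodule (Serre's local finiteness);
* `freeComod f g hfg` : given a comodule `E` and a retraction `f : (Fin d → k) → E`, `f ∘ g = id`,
  a comodule structure on `Fin d → k` (the sum of `E` and the trivial comodule `ker f`) such that
  `f` is a comodule map;
* `main` : S6081.
-/

set_option autoImplicit false
set_option linter.unusedSectionVars false
universe u v w w'

open TensorProduct

namespace Groth.Agent.H1.EquivRes

open Groth.Agent.H40

section Flat

variable {k : Type u} [CommRing k] {C : Type v} [AddCommGroup C] [Module k C] [Coalgebra k C]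
  [Module.Flat k C]
variable {V : Type w} [AddCommGroup V] [Module k V] [HopfRep.Comod k C V]

theorem rTensor_subtype_injective (W : Submodule k V) (M : Type*) [AddCommGroup M] [Module k M]
    [Module.Flat k M] : Function.Injective (W.subtype.rTensor M) :=
  Module.Flat.rTensor_preserves_injective_linearMap W.subtype W.injective_subtype

/-- The coaction restricted to a subcomodule (flat coalgebra). -/
noncomputable def subCoact (W : Submodule k V) (hW : HopfRep.IsSubcomod (k := k) (A := C) W) :
    W →ₗ[k] W ⊗[k] C :=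
  (LinearEquiv.ofInjective (W.subtype.rTensor C)
      (rTensor_subtype_injective W C)).symm.toLinearMap ∘ₗ
    ((HopfRep.Comod.coact (k := k) (A := C) ∘ₗ W.subtype).codRestrict
      (LinearMap.range (W.subtype.rTensor C)) (fun w => hW w w.2))

theorem subCoact_spec (W : Submodule k V) (hW : HopfRep.IsSubcomod (k := k) (A := C) W) (w : W) :
    W.subtype.rTensor C (subCoact W hW w) = HopfRep.Comod.coact (k := k) (A := C) (w : V) := by
  simp only [subCoact, LinearMap.comp_apply, LinearEquiv.coe_coe]
  rw [LinearEquiv.ofInjective_symm_apply]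
  rfl

/-- The comodule structure on a subcomodule (flat coalgebra over a commutative ring). -/
@[reducible] noncomputable def subComod (W : Submodule k V)
    (hW : HopfRep.IsSubcomod (k := k) (A := C) W) : HopfRep.Comod k C W where
  coact := subCoact W hW
  coassoc := by
    have hinj := rTensor_subtype_injective W (C ⊗[k] C)
    refine LinearMap.ext fun w => hinj ?_
    have hspec := subCoact_spec W hW
    have hcomp : (W.subtype.rTensor C) ∘ₗ subCoact W hW =
        HopfRep.Comod.coact (k := k) (A := C) ∘ₗ W.subtype := LinearMap.ext hspec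
    simp only [LinearMap.comp_apply, LinearEquiv.coe_coe]
    have h1 := LinearMap.congr_fun (H62.assoc_nat' C W.subtype)
      ((subCoact W hW).rTensor C (subCoact W hW w))
    simp only [LinearMap.comp_apply, LinearEquiv.coe_coe] at h1
    have h2 : (W.subtype.rTensor C).rTensor C ((subCoact W hW).rTensor C (subCoact W hW w)) =
        (HopfRep.Comod.coact (k := k) (A := C)).rTensor C
          (HopfRep.Comod.coact (k := k) (A := C) (w : V)) := by
      have e : (W.subtype.rTensor C).rTensor C ∘ₗ (subCoact W hW).rTensor C =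
          (HopfRep.Comod.coact (k := k) (A := C)).rTensor C ∘ₗ (W.subtype.rTensor C) := by
        rw [← LinearMap.rTensor_comp, ← LinearMap.rTensor_comp, hcomp]
      have := LinearMap.congr_fun e (subCoact W hW w)
      simp only [LinearMap.comp_apply] at this
      rw [this, hspec]
    have h3 : (W.subtype.rTensor (C ⊗[k] C))
        ((CoalgebraStruct.comul (R := k) (A := C)).lTensor W (subCoact W hW w)) =
        (CoalgebraStruct.comul (R := k) (A := C)).lTensor V
          (HopfRep.Comod.coact (k := k) (A := C) (w : V)) := by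
      have e : (W.subtype.rTensor (C ⊗[k] C)) ∘ₗ
          (CoalgebraStruct.comul (R := k) (A := C)).lTensor W =
          (CoalgebraStruct.comul (R := k) (A := C)).lTensor V ∘ₗ (W.subtype.rTensor C) := by
        rw [LinearMap.rTensor_comp_lTensor, LinearMap.lTensor_comp_rTensor]
      have := LinearMap.congr_fun e (subCoact W hW w)
      simp only [LinearMap.comp_apply] at this
      rw [this, hspec]
    rw [← h1, h2, h3]
    exact H40.coassoc_apply (k := k) (C := C) (w : V)
  counit_comp := by
    have hinj := rTensor_subtype_injective W k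
    refine LinearMap.ext fun w => hinj ?_
    have hspec := subCoact_spec W hW
    have e1 : (W.subtype.rTensor k) ∘ₗ (CoalgebraStruct.counit (R := k) (A := C)).lTensor W =
        (CoalgebraStruct.counit (R := k) (A := C)).lTensor V ∘ₗ (W.subtype.rTensor C) := by
      rw [LinearMap.rTensor_comp_lTensor, LinearMap.lTensor_comp_rTensor]
    have e2 := LinearMap.congr_fun e1 (subCoact W hW w)
    simp only [LinearMap.comp_apply] at e2 ⊢
    rw [e2, hspec]
    have := H40.counit_apply (k := k) (C := C) (w : V)
    rw [this]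
    simp

/-- Serre's local finiteness: over a Noetherian ring, with `C` flat, every finite subset of a
comodule lies in a finitely generated subcomodule. -/
theorem exists_finite_subcomod_finset [IsNoetherianRing k] (s : Finset V) :
    ∃ F : Submodule k V, Module.Finite k F ∧ HopfRep.IsSubcomod (k := k) (A := C) F ∧
      ∀ x ∈ s, x ∈ F := by
  obtain ⟨W, hWfin, hW⟩ := TensorProduct.exists_finite_submodule_left_of_setFinite
    ((ρ k C V) '' (s : Set V)) (s.finite_toSet.image _)
  let φ : V →ₗ[k] (V ⧸ W) ⊗[k] C := (W.mkQ.rTensor C) ∘ₗ ρ k C V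
  have hmk : W.mkQ ∘ₗ W.subtype = 0 := by
    ext x
    simp
  -- (ii) the kernel is contained in `W`
  have hle : LinearMap.ker φ ≤ W := by
    intro x hx
    have h0 : (W.mkQ.rTensor C) (ρ k C V x) = 0 := hx
    have e : (CoalgebraStruct.counit (R := k) (A := C)).lTensor (V ⧸ W) ∘ₗ W.mkQ.rTensor C =
        W.mkQ.rTensor k ∘ₗ (CoalgebraStruct.counit (R := k) (A := C)).lTensor V := by
      rw [LinearMap.lTensor_comp_rTensor, LinearMap.rTensor_comp_lTensor]
    have e' := LinearMap.congr_fun e (ρ k C V x)
    simp only [LinearMap.comp_apply] at e'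
    rw [h0, map_zero, H40.counit_apply, LinearMap.rTensor_tmul] at e'
    have e'' := congrArg (TensorProduct.rid k (V ⧸ W)) e'
    rw [map_zero, TensorProduct.rid_tmul, one_smul] at e''
    exact (Submodule.Quotient.mk_eq_zero W).mp e''.symm
  refine ⟨LinearMap.ker φ, ?_, ?_, ?_⟩
  · exact Module.Finite.iff_fg.mpr (Submodule.FG.of_le (Module.Finite.iff_fg.mp hWfin) hle)
  · -- subcomodule
    intro w hw
    have hw0 : (W.mkQ.rTensor C) (ρ k C V w) = 0 := hw
    have hex := Module.Flat.rTensor_exact C (LinearMap.exact_subtype_ker_map φ)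
    rw [← LinearMap.exact_iff.mp hex, LinearMap.mem_ker]
    apply (TensorProduct.assoc k (V ⧸ W) C C).injective
    rw [map_zero]
    have h1 : φ.rTensor C (ρ k C V w) =
        (W.mkQ.rTensor C).rTensor C ((ρ k C V).rTensor C (ρ k C V w)) := by
      rw [← LinearMap.rTensor_comp_apply]
    rw [h1]
    have h2 := LinearMap.congr_fun (H62.assoc_nat' C W.mkQ)
      ((ρ k C V).rTensor C (ρ k C V w))
    simp only [LinearMap.comp_apply, LinearEquiv.coe_coe] at h2
    rw [h2, H40.coassoc_apply]
    have e : (W.mkQ.rTensor (C ⊗[k] C)) ∘ₗ (CoalgebraStruct.comul (R := k) (A := C)).lTensor V =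
        (CoalgebraStruct.comul (R := k) (A := C)).lTensor (V ⧸ W) ∘ₗ W.mkQ.rTensor C := by
      rw [LinearMap.rTensor_comp_lTensor, LinearMap.lTensor_comp_rTensor]
    have e' := LinearMap.congr_fun e (ρ k C V w)
    simp only [LinearMap.comp_apply] at e'
    rw [e', hw0, map_zero]
  · intro x hx
    have hx' : ρ k C V x ∈ LinearMap.range (W.subtype.rTensor C) := hW ⟨x, hx, rfl⟩
    obtain ⟨t, ht⟩ := hx'
    change (W.mkQ.rTensor C) (ρ k C V x) = 0
    rw [← ht, ← LinearMap.rTensor_comp_apply, hmk, LinearMap.rTensor_zero, LinearMap.zero_apply]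

end Flat

section Free

variable {k : Type u} [CommRing k] {A : Type v} [CommRing A] [Bialgebra k A]
variable {E : Type w} [AddCommGroup E] [Module k E] [HopfRep.Comod k A E]
variable {M : Type w'} [AddCommGroup M] [Module k M]

/-- The coaction on a module `M` retracting onto a comodule `E`: `E ⊕ (trivial comodule ker f)`. -/
noncomputable def freeCoact (f : M →ₗ[k] E) (g : E →ₗ[k] M) : M →ₗ[k] M ⊗[k] A :=
  g.rTensor A ∘ₗ ρ k A E ∘ₗ f + (TensorProduct.mk k M A).flip 1 ∘ₗ (LinearMap.id - g ∘ₗ f)

theorem freeCoact_comp_g (f : M →ₗ[k] E) (g : E →ₗ[k] M) (hfg : f ∘ₗ g = LinearMap.id) :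
    freeCoact f g ∘ₗ g = g.rTensor A ∘ₗ ρ k A E := by
  ext e
  have h : f (g e) = e := LinearMap.congr_fun hfg e
  simp [freeCoact, h]

theorem freeCoact_comp_subtype (f : M →ₗ[k] E) (g : E →ₗ[k] M) :
    freeCoact (A := A) f g ∘ₗ (LinearMap.ker f).subtype =
      (LinearMap.ker f).subtype.rTensor A ∘ₗ
        (TensorProduct.mk k (LinearMap.ker f) A).flip 1 := by
  ext x
  have h : f (x : M) = 0 := x.2
  simp [freeCoact, h]

theorem eq_of_comp_eq {N : Type*} [AddCommGroup N] [Module k N] (f : M →ₗ[k] E) (g : E →ₗ[k] M)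
    (L₁ L₂ : M →ₗ[k] N) (h1 : L₁ ∘ₗ g = L₂ ∘ₗ g)
    (h2 : L₁ ∘ₗ (LinearMap.ker f).subtype = L₂ ∘ₗ (LinearMap.ker f).subtype)
    (hfg : f ∘ₗ g = LinearMap.id) : L₁ = L₂ := by
  ext m
  have hk : m - g (f m) ∈ LinearMap.ker f := by
    have h : f (g (f m)) = f m := LinearMap.congr_fun hfg (f m)
    rw [LinearMap.mem_ker, map_sub, h, sub_self]
  have e1 := LinearMap.congr_fun h1 (f m)
  have e2 := LinearMap.congr_fun h2 ⟨_, hk⟩
  simp only [LinearMap.comp_apply, Submodule.subtype_apply] at e1 e2
  have : m = g (f m) + (m - g (f m)) := by abel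
  rw [this, map_add, map_add, e1, e2]

theorem freeCoact_coassoc (f : M →ₗ[k] E) (g : E →ₗ[k] M) (hfg : f ∘ₗ g = LinearMap.id) :
    (TensorProduct.assoc k M A A).toLinearMap ∘ₗ (freeCoact f g).rTensor A ∘ₗ freeCoact f g =
      (CoalgebraStruct.comul (R := k) (A := A)).lTensor M ∘ₗ freeCoact f g := by
  have h1 := H62.coassoc_of_hom (C := A) g (freeCoact (A := A) f g) (freeCoact_comp_g f g hfg)
  have h2 := @H62.coassoc_of_hom k _ A _ _ _ (LinearMap.ker f) _ _
    (HopfRep.Comod.trivial k A (LinearMap.ker f)) M _ _ (LinearMap.ker f).subtype (freeCoact f g)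
    (freeCoact_comp_subtype f g)
  exact eq_of_comp_eq f g _ _ h1 h2 hfg

theorem freeCoact_counit (f : M →ₗ[k] E) (g : E →ₗ[k] M) (hfg : f ∘ₗ g = LinearMap.id) :
    (CoalgebraStruct.counit (R := k) (A := A)).lTensor M ∘ₗ freeCoact f g =
      (TensorProduct.mk k M k).flip 1 := by
  have h1 := H62.counit_of_hom (C := A) g (freeCoact (A := A) f g) (freeCoact_comp_g f g hfg)
  have h2 := @H62.counit_of_hom k _ A _ _ _ (LinearMap.ker f) _ _
    (HopfRep.Comod.trivial k A (LinearMap.ker f)) M _ _ (LinearMap.ker f).subtype (freeCoact f g)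
    (freeCoact_comp_subtype f g)
  exact eq_of_comp_eq f g _ _ h1 h2 hfg

/-- The comodule structure on `M`. -/
@[reducible] noncomputable def freeComod (f : M →ₗ[k] E) (g : E →ₗ[k] M)
    (hfg : f ∘ₗ g = LinearMap.id) : HopfRep.Comod k A M where
  coact := freeCoact f g
  coassoc := freeCoact_coassoc f g hfg
  counit_comp := freeCoact_counit f g hfg

theorem rTensor_comp_freeCoact (f : M →ₗ[k] E) (g : E →ₗ[k] M) (hfg : f ∘ₗ g = LinearMap.id) :
    f.rTensor A ∘ₗ freeCoact f g = ρ k A E ∘ₗ f := by
  ext m
  have h : f (g (f m)) = f m := LinearMap.congr_fun hfg (f m)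
  simp only [freeCoact, LinearMap.comp_apply, LinearMap.add_apply, LinearMap.sub_apply,
    LinearMap.id_apply, LinearMap.flip_apply, TensorProduct.mk_apply, map_add,
    LinearMap.rTensor_tmul, map_sub, h, sub_self, add_zero]
  rw [← LinearMap.rTensor_comp_apply, hfg, LinearMap.rTensor_id, LinearMap.id_apply]

end Free

section Main

open Groth.Agent.H62

/-- S6081: the equivariant resolution property implies that `Spec A` is a closed subgroup of
`GL_d`. -/
theorem main (R : Type u) [CommRing R] [IsNoetherianRing R]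
    (A : Type u) [CommRing A] [HopfAlgebra R A] [Module.Flat R A] [Algebra.FiniteType R A]
    (hRE : ∀ (F : Type u) [AddCommGroup F] [Module R F] [HopfRep.Comod R A F] [Module.Finite R F],
      ∃ (E : Type u) (_ : AddCommGroup E) (_ : Module R E) (_ : HopfRep.Comod R A E) (π : E →ₗ[R] F),
        Module.Finite R E ∧ Module.Projective R E ∧ Function.Surjective π ∧
        HopfRep.Comod.coact (k := R) (A := A) ∘ₗ π = π.rTensor A ∘ₗ HopfRep.Comod.coact (k := R) (A := A) (V := E)) :
    ∃ (d : ℕ) (a : Matrix (Fin d) (Fin d) A),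
      (∀ i j, CoalgebraStruct.comul (R := R) (a i j) = ∑ l, a i l ⊗ₜ[R] a l j) ∧
      (∀ i j, CoalgebraStruct.counit (R := R) (a i j) = if i = j then 1 else 0) ∧
      ∃ u : A, u * a.det = 1 ∧ Algebra.adjoin R (Set.range (fun p : Fin d × Fin d => a p.1 p.2) ∪ {u}) = ⊤ := by
  obtain ⟨s, hs⟩ := (Algebra.FiniteType.out : (⊤ : Subalgebra R A).FG)
  obtain ⟨F, hFfin, hF, hmem⟩ := exists_finite_subcomod_finset (k := R) (C := A) (V := A) s
  let cF : HopfRep.Comod R A F := subComod F hF
  obtain ⟨E, iE1, iE2, cE, π, hEfin, hEproj, hπ, hπc⟩ := hRE F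
  obtain ⟨d, f, g, hf, hg, hfg⟩ := Module.Finite.exists_comp_eq_id_of_projective R E
  let cM : HopfRep.Comod R A (Fin d → R) := freeComod (A := A) f g hfg
  let b : Module.Basis (Fin d) R (Fin d → R) := Pi.basisFun R (Fin d)
  let a : Matrix (Fin d) (Fin d) A := MatCoeff.mat A b
  let u : A := (a.map (HopfAlgebraStruct.antipode (R := R) (A := A))).det
  have hdet : a.det * u = 1 := MatCoeff.det_mul_det b
  refine ⟨d, a, fun i j => MatCoeff.comul_coeff b i j, fun i j => MatCoeff.counit_coeff b i j, u,
    by rw [mul_comm]; exact hdet, ?_⟩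
  rw [eq_top_iff, ← hs]
  apply Algebra.adjoin_le
  intro x hx
  have hxF : x ∈ F := hmem x hx
  obtain ⟨e, he⟩ := hπ ⟨x, hxF⟩
  let θ : (Fin d → R) →ₗ[R] A := F.subtype ∘ₗ π ∘ₗ f
  have hθ : ∀ m, CoalgebraStruct.comul (R := R) (θ m) =
      θ.rTensor A (freeCoact (A := A) f g m) := by
    intro m
    have h1 := subCoact_spec F hF (π (f m))
    have h2 := LinearMap.congr_fun hπc (f m)
    have h3 := LinearMap.congr_fun (rTensor_comp_freeCoact (A := A) f g hfg) m
    simp only [LinearMap.comp_apply] at h2 h3
    refine Eq.trans h1.symm ?_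
    change F.subtype.rTensor A (HopfRep.Comod.coact (k := R) (A := A) (π (f m))) = _
    rw [h2, ← h3, ← LinearMap.rTensor_comp_apply, ← LinearMap.rTensor_comp_apply]
    rfl
  let Φ : (Fin d → R) →ₗ[R] A := (TensorProduct.lid R A).toLinearMap ∘ₗ
    ((CoalgebraStruct.counit (R := R) (A := A)) ∘ₗ θ).rTensor A ∘ₗ freeCoact (A := A) f g
  have hΦ : ∀ m, Φ m = θ m := by
    intro m
    simp only [Φ, LinearMap.comp_apply, LinearEquiv.coe_coe]
    rw [LinearMap.rTensor_comp_apply, ← hθ m, Coalgebra.rTensor_counit_comul,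
      TensorProduct.lid_tmul, one_smul]
  have hΦb : ∀ j, Φ (b j) ∈
      Subalgebra.toSubmodule (Algebra.adjoin R (Set.range (fun p : Fin d × Fin d => a p.1 p.2) ∪ {u})) := by
    intro j
    have hcb : freeCoact (A := A) f g (b j) = ∑ i, b i ⊗ₜ[R] MatCoeff.coeff A b i j :=
      MatCoeff.coact_basis b j
    simp only [Φ, LinearMap.comp_apply, hcb, map_sum, LinearMap.rTensor_tmul, LinearEquiv.coe_coe,
      TensorProduct.lid_tmul]
    refine Submodule.sum_mem _ fun i _ => Submodule.smul_mem _ _ ?_
    exact Algebra.subset_adjoin (Or.inl ⟨(i, j), rfl⟩)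
  have hΦall : ∀ m, Φ m ∈
      Subalgebra.toSubmodule (Algebra.adjoin R (Set.range (fun p : Fin d × Fin d => a p.1 p.2) ∪ {u})) := by
    intro m
    rw [← b.sum_repr m, map_sum]
    refine Submodule.sum_mem _ fun i _ => ?_
    rw [map_smul]
    exact Submodule.smul_mem _ _ (hΦb i)
  have hx' : x = Φ (g e) := by
    rw [hΦ]
    have h := LinearMap.congr_fun hfg e
    simp only [LinearMap.comp_apply, LinearMap.id_apply] at h
    simp only [θ, LinearMap.comp_apply, Submodule.subtype_apply, h, he]
  rw [hx']
  exact hΦall _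

end Main

end Groth.Agent.H1.EquivRes
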